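import Cfsg.Agent.Lib.FischerM23Recog.Count
import Cfsg.Agent.Lib.Fi22Cover.Transfer

/-!
An involution whose centraliser is a perfect double cover of Fi22 and which is not weakly closed there: the group is
a copy of Fi23 and the class is the class of 3-transpositions.
-/

set_option autoImplicit false

namespace Cfsg.Agent.FischerM23Recog

open Cfsg.Agent.CosetCert
open Cfsg.Agent.CosetData
open Cfsg.Agent.FischerPresented

universe u

local notation "G₀" => FischerUnique23.GT

/-- The group is a copy of Fi23. -/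
theorem exists_mulEquiv_zero {G : Type} [Group G] [Finite G] {d : G}
    (σ : ↥(Subgroup.centralizer ({d} : Set G)) →* Setup.G Fi22B.setup) (hs : Function.Surjective σ)
    (hd : d * d = 1) (hd1 : d ≠ 1) (hσd : σ ⟨d, Fi22Cover.mem_cz.2 rfl⟩ = 1)
    (hker : ∀ x, σ x = 1 → (x : G) = 1 ∨ (x : G) = d)
    (hperf : commutator ↥(Subgroup.centralizer ({d} : Set G)) = ⊤)
    (hnwc : ∃ g : G, g * d * g⁻¹ ∈ Subgroup.centralizer ({d} : Set G) ∧ g * d * g⁻¹ ≠ d) :
    ∃ e : G₀ ≃* G, e '' Fi23.D = conjugatesOf d := by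
  obtain ⟨L, hL⟩ := exists_marked σ hs hd hd1 hσd hker hperf hnwc
  obtain ⟨E⟩ := exists_emb hL hd hd1
  refine ⟨MulEquiv.ofBijective E.ψ ⟨E.inj, E.surjective hd hd1⟩, ?_⟩
  ext x
  refine ⟨?_, fun hx => ?_⟩
  · rintro ⟨a, ha, rfl⟩
    exact E.conj_mem ha
  · obtain ⟨t, rfl⟩ := isConj_iff.1 (show IsConj d x from hx)
    obtain ⟨c, rfl⟩ := E.surjective hd hd1 t
    refine ⟨c * Fi23.z * c⁻¹, Fi23.mem_D.2 ⟨c, rfl⟩, ?_⟩
    show E.ψ _ = _
    rw [map_mul, map_mul, map_inv, E.map_z]

/-- The group is a copy of Fi23, in any universe. -/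
theorem exists_mulEquiv {G : Type u} [Group G] [Finite G] {d : G}
    (σ : ↥(Subgroup.centralizer ({d} : Set G)) →* Setup.G Fi22B.setup) (hs : Function.Surjective σ)
    (hd : orderOf d = 2) (hσd : ∀ x : ↥(Subgroup.centralizer ({d} : Set G)), (x : G) = d → σ x = 1)
    (hker : ∀ x, σ x = 1 → (x : G) = 1 ∨ (x : G) = d)
    (hperf : commutator ↥(Subgroup.centralizer ({d} : Set G)) = ⊤)
    (hnwc : ∃ g : G, g * d * g⁻¹ ∈ Subgroup.centralizer ({d} : Set G) ∧ g * d * g⁻¹ ≠ d) :
    ∃ e : G₀ ≃* G, e '' Fi23.D = conjugatesOf d := by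
  let e : Shrink.{0} G ≃* G := Shrink.mulEquiv
  have : Finite (Shrink.{0} G) := Finite.of_equiv G e.symm.toEquiv
  set d' := e.symm d
  have hd' : orderOf d' = 2 := by rw [e.symm.orderOf_eq, hd]
  have hd2 : d' * d' = 1 := by rw [← sq, ← hd', pow_orderOf_eq_one]
  have hmem : ∀ x : Shrink.{0} G, x ∈ Subgroup.centralizer {d'} ↔ e x ∈ Subgroup.centralizer {d} := fun x => by
    rw [Subgroup.mem_centralizer_singleton_iff, Subgroup.mem_centralizer_singleton_iff, ← e.injective.eq_iff,
      map_mul, map_mul, e.apply_symm_apply]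
  let r : ↥(Subgroup.centralizer {d'}) ≃* ↥(Subgroup.centralizer ({d} : Set G)) :=
    { toFun := fun x => ⟨e x, (hmem x).1 x.2⟩
      invFun := fun x => ⟨e.symm x, (hmem _).2 (by rw [e.apply_symm_apply]; exact x.2)⟩
      left_inv := fun x => Subtype.ext (e.symm_apply_apply _)
      right_inv := fun x => Subtype.ext (e.apply_symm_apply _)
      map_mul' := fun x y => Subtype.ext (map_mul e _ _) }
  obtain ⟨f, hf⟩ := exists_mulEquiv_zero (σ.comp r.toMonoidHom) (hs.comp r.surjective) hd2
    (fun h => by rw [h, orderOf_one] at hd'; norm_num at hd') (hσd _ (e.apply_symm_apply d))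
    (fun x hx => (hker (r x) hx).imp (fun h => e.injective (h.trans (map_one e).symm))
      (fun h => e.injective (h.trans (e.apply_symm_apply d).symm)))
    (by rw [← Subgroup.map_top_of_surjective r.symm.toMonoidHom r.symm.surjective, ← hperf, commutator_def,
      commutator_def, Subgroup.map_commutator, Subgroup.map_top_of_surjective r.symm.toMonoidHom r.symm.surjective])
    (by
      obtain ⟨g, hg, hne⟩ := hnwc
      refine ⟨e.symm g, (hmem _).2 ?_, fun h => hne ?_⟩
      · rw [map_mul, map_mul, map_inv, e.apply_symm_apply, e.apply_symm_apply]; exact hg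
      · have := congrArg e h
        simpa [d'] using this)
  refine ⟨f.trans e, ?_⟩
  ext x
  constructor
  · rintro ⟨a, ha, rfl⟩
    have h : IsConj d' (f a) := hf.le ⟨a, ha, rfl⟩
    have h2 : IsConj (e d') (e (f a)) := e.toMonoidHom.map_isConj h
    rw [e.apply_symm_apply] at h2
    exact h2
  · intro hx
    have h : e.symm x ∈ conjugatesOf d' := e.symm.toMonoidHom.map_isConj (show IsConj d x from hx)
    obtain ⟨a, ha, e'⟩ := hf.ge h
    exact ⟨a, ha, by rw [MulEquiv.trans_apply, e', e.apply_symm_apply]⟩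

end Cfsg.Agent.FischerM23Recog
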