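import Cfsg.Agent.Lib.FischerM23Recog.Fusion
import Cfsg.Agent.Lib.FischerM23Recog.Config
import Cfsg.Agent.Lib.Fi23Type.Type

/-!
A group with an involution centralised by a perfect double cover of Fi22 and not weakly closed there contains a
copy of Fi23 containing that centraliser.
-/

set_option autoImplicit false
set_option maxRecDepth 100000

namespace Cfsg.Agent.FischerM23Recog

open Cfsg.Agent.CosetCert
open Cfsg.Agent.Fischer.Factor
open Cfsg.Agent.FischerUnique
open Cfsg.Agent.Fi22Local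
open Cfsg.Agent.FischerPresented
open Cfsg.Agent.FischerUnique23

local notation "FT" => CosetData.Fi23A.setup
local notation "cz(" d ")" => Subgroup.centralizer ({d} : Set _)

/-- The facts used about the copy of Fi23. -/
structure Emb (G : Type) [Group G] (d : G) where
  ψ : FischerUnique23.GT →* G
  inj : Function.Injective ψ
  map_z : ψ Fi23.z = d
  le_range : cz(d) ≤ ψ.range
  fus : ∀ x ∈ cz(d), IsConj d x → x ∈ ψ '' Fi23.D

variable {G : Type} [Group G]

/-- Labelled members braid. -/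
theorem lab_cube {D : Set G} {t : G} {L : ℕ → G} (hL : Lab D t L) (hinv : ∀ y ∈ D, y * y = 1) {p q : ℕ}
    (hp : p < 3510) (hq : q < 3510) (hnc : ¬ Commute (L p) (L q)) : (L p * L q) ^ 3 = 1 := by
  have e : tapp p q = tapp q p := by
    refine trN_inj (tapp_lt hp hq) (tapp_lt hq hp) ?_
    rw [trN_tapp hp hq, trN_tapp hq hp]
    have h3 : ¬ Commute (trN p) (trN q) := fun h => hnc ((hL.comm p hp q hq).2 ((tapp_self_iff hp hq).2 h))
    have hc := Fischer.TSet.cube Fi22Class.isClass.1 (trN_mem hp) (trN_mem hq) h3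
    have a2 := Fischer.TSet.sq Fi22Class.isClass.1 (trN_mem hp)
    have b2 := Fischer.TSet.sq Fi22Class.isClass.1 (trN_mem hq)
    rw [inv_eq_of_mul_eq_one_right a2, inv_eq_of_mul_eq_one_right b2]
    rw [pow_succ, pow_two] at hc
    have h4 : (trN p * trN q * trN p) * (trN q * trN p * trN q) = 1 := by simpa [mul_assoc] using hc
    rw [eq_inv_of_mul_eq_one_left h4]
    simp [mul_assoc, inv_eq_of_mul_eq_one_right a2, inv_eq_of_mul_eq_one_right b2]
  have a2 := hinv _ (hL.mem p hp).1
  have b2 := hinv _ (hL.mem q hq).1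
  have h1 := hL.conj p hp q hq
  rw [e, hL.conj q hq p hp, inv_eq_of_mul_eq_one_right a2, inv_eq_of_mul_eq_one_right b2] at h1
  calc (L p * L q) ^ 3 = (L p * L q * L p) * (L q * L p * L q) := by rw [pow_succ, pow_two]; simp only [mul_assoc]
    _ = (L q * L p * L q) * (L q * L p * L q) := by rw [h1]
    _ = 1 := by
      simp only [mul_assoc]
      rw [← mul_assoc (L q) (L q), b2, one_mul, ← mul_assoc (L p) (L p), a2, one_mul, b2]

variable [Finite G] {d : G}

/-- The copy of Fi23. -/
theorem exists_emb {L₁ : ℕ → G} (hM : Marked d L₁) (hd : d * d = 1) (hd1 : d ≠ 1) : Nonempty (Emb G d) := by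
  set D : Set G := conjugatesOf d with hDdef
  have hconjD : ∀ (g y : G), y ∈ D → g * y * g⁻¹ ∈ D := fun g y hy =>
    IsConj.trans (show IsConj d y from hy) (isConj_iff.2 ⟨g, rfl⟩)
  have hinvD : ∀ y ∈ D, y * y = 1 := fun y hy => by
    obtain ⟨g, rfl⟩ := isConj_iff.1 (show IsConj d y from hy)
    rw [show g * d * g⁻¹ * (g * d * g⁻¹) = g * (d * d) * g⁻¹ by group, hd]; group
  have hnb : ∀ (g : G) {t y : G}, y ∈ Nb D t → g * y * g⁻¹ ∈ Nb D (g * t * g⁻¹) := fun g {t y} hy =>
    ⟨hconjD g y hy.1, fun h => hy.2.1 (mul_left_cancel (mul_right_cancel h)),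
      (Fischer.commute_conj_iff g t y).2 hy.2.2⟩
  have hmove : ∀ (g : G) {t : G} {M : ℕ → G}, Lab D t M → Lab D (g * t * g⁻¹) (fun p => g * M p * g⁻¹) := by
    intro g t M hl
    refine ⟨fun p hp => hnb g (hl.mem p hp), fun y hy => ?_,
      fun p hp q hq e => hl.inj p hp q hq (mul_left_cancel (mul_right_cancel e)),
      fun p hp q hq => (Fischer.commute_conj_iff g _ _).trans (hl.comm p hp q hq), fun p hp q hq => ?_⟩
    · have hy' := hnb g⁻¹ hy
      rw [inv_inv, show g⁻¹ * (g * t * g⁻¹) * g = t by group] at hy'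
      obtain ⟨p, hp, e⟩ := hl.surj _ hy'
      exact ⟨p, hp, by show g * M p * g⁻¹ = y; rw [e]; group⟩
    · show g * M (tapp p q) * g⁻¹ = _
      rw [hl.conj p hp q hq]; group
  have hLab : ∀ t ∈ D, ∃ L, Lab D t L := fun t ht => by
    obtain ⟨g, rfl⟩ := isConj_iff.1 (show IsConj d t from ht)
    exact ⟨_, hmove g hM.lab⟩
  obtain ⟨t, ht, x₀, hx₀, L₀, hL₀, htx₀, i₀, hi₀, h8₀, h6₀⟩ :=
    exists_config hLab ⟨d, mem_conjugatesOf_self⟩
  obtain ⟨c, hc⟩ := isConj_iff.1 (show IsConj d t from ht)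
  have ec : c⁻¹ * t * c⁻¹⁻¹ = d := by rw [← hc]; group
  set x := c⁻¹ * x₀ * c⁻¹⁻¹ with hxdef
  set L := fun p => c⁻¹ * L₀ p * c⁻¹⁻¹ with hLdef
  have hL : Lab D d L := ec ▸ hmove c⁻¹ hL₀
  have hx : x ∈ D := hconjD _ _ hx₀
  have hcm : ∀ p, Commute x (L p) ↔ Commute x₀ (L₀ p) := fun p => Fischer.commute_conj_iff _ _ _
  have htx : ¬ Commute d x := fun h => htx₀ (by
    rwa [← ec, hxdef, Fischer.commute_conj_iff] at h)
  obtain ⟨N, gs, hN, hNi⟩ : ∃ N gs, nineB' N gs = true ∧ N = nine i₀ := by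
    interval_cases i₀
    · exact ⟨nineA, genA, nine_ok.1, rfl⟩
    · exact ⟨nineB, genB, nine_ok.2, rfl⟩
  have hN' := hN
  simp only [nineB', Bool.and_eq_true, List.all_eq_true, List.mem_range, Nat.blt_eq, Nat.beq_eq] at hN'
  obtain ⟨⟨⟨⟨hrel, hw1⟩, hlen⟩, -⟩, -⟩ := hN'
  subst hNi
  set N := nine i₀
  have h8 : ∀ j < 9, j ≠ 6 → Commute x (L (N.getD j 0)) := fun j hj hj6 => (hcm _).2 (h8₀ j hj hj6).2
  have hlt : ∀ i, N.getD i 0 < 3510 := fun i => by
    by_cases hi : i < 9
    · exact (hrel i hi).1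
    · rw [List.getD_eq_getElem?_getD, List.getElem?_eq_none (by omega)]; norm_num
  have hT6 : ¬ Commute x (L (N.getD 6 0)) := fun h => h6₀ ⟨hlt 6, (hcm _).1 h⟩
  let f : ℕ → G := fun i => if i = 9 then x else L (N.getD i 0)
  have hf : ∀ i < 9, f i = L (N.getD i 0) := fun i hi => if_neg (by omega)
  have hf9 : f 9 = x := if_pos rfl
  have hfD : ∀ i, f i ∈ D := fun i => by
    show (if i = 9 then x else L (N.getD i 0)) ∈ D
    split
    · exact hx
    · exact (hL.mem _ (hlt i)).1
  have hinv : ∀ i, f i * f i = 1 := fun i => hinvD _ (hfD i)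
  have hLinv : ∀ p < 3510, L p * L p = 1 := fun p hp => hinvD _ (hL.mem p hp).1
  have hedge : ∀ i < 10, ∀ j < 10, edge10 i j = true → (i = 9 ∧ j = 6) ∨ (i = 6 ∧ j = 9) ∨ (i < 9 ∧ j < 9) := by
    decide +kernel
  -- relations of pairs
  have hpair : ∀ i < 10, ∀ j < 10, i ≠ j → edge10 i j = false → Commute (f i) (f j) := by
    intro i hi j hj hij he
    have hspec : ∀ i < 9, edge10 i 9 = Nat.beq i 6 ∧ edge10 9 i = Nat.beq i 6 := by decide +kernel
    rcases (by omega : i = 9 ∨ i < 9) with rfl | hi'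
    · obtain hj' : j < 9 := by omega
      rw [hf9, hf j hj']
      refine h8 j hj' fun e => ?_
      subst e
      rw [(hspec 6 hj').2] at he
      exact absurd he (by decide)
    rcases (by omega : j = 9 ∨ j < 9) with rfl | hj'
    · rw [hf9, hf i hi']
      refine (h8 i hi' fun e => ?_).symm
      subst e
      rw [(hspec 6 hi').1] at he
      exact absurd he (by decide)
    rw [hf i hi', hf j hj', hL.comm _ (hlt i) _ (hlt j)]
    have h := ((hrel i hi').2 j hj')
    simp only [Bool.or_eq_true, Nat.beq_eq, hij, false_or, Bool.and_eq_true, Bool.not_eq_true',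
      beq_iff_eq] at h
    have he' : edgeB i j = false := by
      simp only [edge10, Bool.or_eq_false_iff] at he
      exact he.1.1
    rw [he'] at h
    exact Nat.eq_of_beq_eq_true (by simpa using h.2.symm)
  have hcube6 : ¬ Commute (L (N.getD 6 0)) x → (L (N.getD 6 0) * x) ^ 3 = 1 := fun hnc => by
    have h0 : Commute (L (N.getD 0 0)) (L (N.getD 6 0)) := by
      have := hpair 0 (by norm_num) 6 (by norm_num) (by norm_num) (by decide +kernel)
      rwa [hf 0 (by norm_num), hf 6 (by norm_num)] at this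
    set u := L (N.getD 0 0) with hu
    have hux : Commute u x := (h8 0 (by norm_num) (by norm_num)).symm
    obtain ⟨L', hL'⟩ := hLab u (hL.mem _ (hlt 0)).1
    obtain ⟨a, ha, ea⟩ := hL'.surj (L (N.getD 6 0)) ⟨(hL.mem _ (hlt 6)).1, fun e => hT6 (by rw [e]; exact hux.symm), h0⟩
    obtain ⟨b, hb, eb⟩ := hL'.surj x ⟨hx, fun e => htx (e ▸ (hL.mem _ (hlt 0)).2.2), hux⟩
    rw [← ea, ← eb] at hnc ⊢
    exact lab_cube hL' hinvD ha hb hnc
  have hgenD : ∀ k : G, Commute k d → Commute k x → (∀ p < 3510, Commute k (L p)) → k = 1 := by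
    intro k k1 k2 k3
    refine (hM.cent k k1 fun p hp => ?_).resolve_right fun e => htx (e ▸ k2)
    obtain ⟨q, hq, e⟩ := hL.surj _ (hM.lab.mem p hp)
    exact e ▸ k3 q hq
  -- the words among the nine
  have hword : ∀ w : List ℕ, sameW (flatW N w) [] = true →
      ∀ p < 3510, Commute (wprod (fun i => L (N.getD i 0)) w) (L p) := by
    intro w hw p hp
    have h := wprod_act hL N hlt w hp
    rw [el_eq hw, el_nil, apt_one] at h
    exact (eq_mul_inv_iff_mul_eq.1 h).symm
  have hextra : ∀ w ∈ extras, wprod f w = 1 := by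
    intro w hw
    have hl := List.all_eq_true.1 extras_letters w hw
    simp only [List.all_eq_true, Bool.and_eq_true, Nat.blt_eq, Bool.not_eq_true'] at hl
    rw [wprod_congr (g := fun i => L (N.getD i 0)) fun i hi => hf i (hl i hi).1]
    refine hgenD _ ?_ ?_ (hword w (hw1 w (List.mem_append_left _ hw)))
    · clear hw hl
      induction w with
      | nil => rw [wprod_nil]; exact Commute.one_left d
      | cons i w ih => rw [wprod_cons]; exact ((hL.mem _ (hlt i)).2.2.symm).mul_left ih
    · clear hw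
      induction w with
      | nil => rw [wprod_nil]; exact Commute.one_left x
      | cons i w ih =>
        rw [wprod_cons]
        refine ((h8 i (hl i List.mem_cons_self).1 ?_).symm).mul_left
          (ih fun j hj => hl j (List.mem_cons_of_mem _ hj))
        intro e; have := (hl i List.mem_cons_self).2; rw [e] at this; simp at this
  have hb : ∀ w ∈ CosetData.Fi23A.base, wprod f w = 1 := by
    intro w hw
    have := List.all_eq_true.1 base_shape w hw
    simp only [Bool.or_eq_true, List.any_eq_true, Bool.and_eq_true, List.mem_range,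
      Bool.not_eq_true'] at this
    rcases this with ⟨u, hu, e⟩ | ⟨i, hi, j, hj, hij, e⟩
    · rw [eq_of_wordEq e]; exact hextra u hu
    · have hij' : i ≠ j := fun e => by rw [e] at hij; simp at hij
      rw [eq_of_wordEq e, wprod_rep, wprod_cons, wprod_cons, wprod_nil, mul_one]
      cases he : edge10 i j with
      | false => rw [cond_false]
                 exact (Fischer.commute_iff_sq_eq_one (hinv i) (hinv j)).1 (hpair i hi j hj hij' he)
      | true =>
        rw [cond_true]
        rcases hedge i hi j hj he with ⟨rfl, rfl⟩ | ⟨rfl, rfl⟩ | ⟨hi', hj'⟩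
        · rw [hf9, hf 6 (by norm_num)]
          have h3 := hcube6 fun h => hT6 h.symm
          have hc3 : (x * L (N.getD 6 0)) ^ 3 = x * (L (N.getD 6 0) * x) ^ 3 * x⁻¹ := by
            simp only [pow_succ, pow_zero, one_mul]; group
          rw [hc3, h3, mul_one, mul_inv_cancel]
        · rw [hf9, hf 6 (by norm_num)]
          exact hcube6 fun h => hT6 h.symm
        · rw [hf i hi', hf j hj']
          refine lab_cube hL hinvD (hlt i) (hlt j) fun hc => ?_
          have h := ((hrel i hi').2 j hj')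
          simp only [Bool.or_eq_true, Nat.beq_eq, hij', false_or, Bool.and_eq_true, Bool.not_eq_true',
            beq_iff_eq] at h
          rw [hL.comm _ (hlt i) _ (hlt j)] at hc
          have hspec : ∀ i < 9, ∀ j < 9, edge10 i j = edgeB i j := by decide +kernel
          rw [← hspec i hi' j hj', he] at h
          have h2 := h.2
          rw [hc, Nat.beq_refl] at h2
          exact Bool.noConfusion h2
  obtain ⟨ψ, hψ⟩ := exists_hom_fin FT f hinv hb
  have hψ' : ∀ i < 10, ψ (Setup.gen FT i) = f i := hψ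
  have := Fi23.isSimpleGroup
  have hψinj : Function.Injective ψ := by
    rw [← MonoidHom.ker_eq_bot_iff]
    refine (MonoidHom.normal_ker ψ).eq_bot_or_eq_top.resolve_right fun htop => ?_
    have h0 : f 0 = 1 := by rw [← hψ' 0 (by norm_num), MonoidHom.ker_eq_top_iff.1 htop]; rfl
    exact hd1 (isConj_one_left.1 (h0 ▸ (show IsConj d (f 0) from hfD 0)))
  have hzL : ∀ p < 3510, Commute (ψ Fi23.z) (L p) :=
    all_labels hL hN (Commute (ψ Fi23.z)) (fun a b ha hb => (ha.mul_right hb).mul_right ha.inv_right) hLinv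
      fun i hi => by
        rw [← hf i hi, ← hψ' i (by omega)]
        exact (show Commute Fi23.z (Setup.gen FT i) from Fi23.z_comm i hi).map ψ
  have hcl : cz(d) ≤ Subgroup.closure (L '' {p | p < 3510}) := by
    refine hM.gen.trans ((Subgroup.closure_le _).2 ?_)
    rintro _ ⟨p, hp, rfl⟩
    obtain ⟨q, hq, e⟩ := hL.surj _ (hM.lab.mem p hp)
    exact e ▸ Subgroup.subset_closure ⟨q, hq, rfl⟩
  have hdcl : d ∈ Subgroup.closure (L '' {p | p < 3510}) :=
    hcl (Subgroup.mem_centralizer_singleton_iff.2 rfl)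
  have hzd : Commute (ψ Fi23.z) d := by
    suffices h : ∀ y ∈ Subgroup.closure (L '' {p | p < 3510}), Commute (ψ Fi23.z) y from h d hdcl
    intro y hy
    induction hy using Subgroup.closure_induction with
    | mem y hy => obtain ⟨p, hp, rfl⟩ := hy; exact hzL p hp
    | one => exact Commute.one_right _
    | mul a b _ _ h1 h2 => exact h1.mul_right h2
    | inv a _ h1 => exact h1.inv_right
  have hzt : ψ Fi23.z = d := by
    refine (hM.cent _ hzd fun p hp => ?_).resolve_left fun e => ?_
    · obtain ⟨q, hq, e⟩ := hL.surj _ (hM.lab.mem p hp)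
      exact e ▸ hzL q hq
    · exact Fi23.z_ne_one (hψinj (e.trans (map_one ψ).symm))
  have hLP : ∀ p < 3510, L p ∈ ψ '' Fi23.D := by
    refine all_labels hL hN (· ∈ ψ '' Fi23.D) ?_ hLinv
      fun i hi => ⟨_, (gen_nb i hi).1, (hψ' i (by omega)).trans (hf i hi)⟩
    rintro _ _ ⟨a, ha, rfl⟩ ⟨b, hb, rfl⟩
    exact ⟨a * b * a⁻¹, D23_group.2.1 a b hb, by rw [map_mul, map_mul, map_inv]⟩
  refine ⟨⟨ψ, hψinj, hzt, hcl.trans ((Subgroup.closure_le _).2 ?_), fun y hy hconj => ?_⟩⟩
  · rintro _ ⟨p, hp, rfl⟩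
    obtain ⟨a, -, ea⟩ := hLP p hp
    exact ⟨a, ea⟩
  · by_cases hyd : y = d
    · exact ⟨Fi23.z, z23_mem, hzt.trans hyd.symm⟩
    · obtain ⟨p, hp, rfl⟩ := hL.surj y ⟨hconj, hyd, (Subgroup.mem_centralizer_singleton_iff.1 hy).symm⟩
      exact hLP p hp

end Cfsg.Agent.FischerM23Recog
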