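import Cfsg.Agent.Lib.Fi22Cover.Fusion
import Cfsg.Agent.Lib.FischerUnique23.Lab
import Cfsg.Agent.Lib.Fi22Type.Type

/-!
An involution centralised by a perfect double cover of Fi22 and not weakly closed there: its conjugates in the
centraliser are itself and one of the two lifted classes of transpositions, which carry the labels.
-/

set_option autoImplicit false
set_option maxRecDepth 100000

namespace Cfsg.Agent.FischerM23Recog

open Cfsg.Agent.CosetCert
open Cfsg.Agent.CosetData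
open Cfsg.Agent.FischerPresented
open Cfsg.Agent.FischerPresented.Out22 (hm tr)
open Cfsg.Agent.Fi22Cover
open Cfsg.Agent.Fischer.Factor (Nb)
open scoped commutatorElement

local notation "G₀" => Setup.G Fi22B.setup
local notation "cz(" d ")" => Subgroup.centralizer ({d} : Set _)

/-- What is used about the centraliser. -/
structure Marked {G : Type} [Group G] (d : G) (L : ℕ → G) : Prop where
  lab : FischerUnique23.Lab (conjugatesOf d) d L
  gen : cz(d) ≤ Subgroup.closure (L '' {p | p < 3510})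
  cent : ∀ k : G, Commute k d → (∀ p < 3510, Commute k (L p)) → k = 1 ∨ k = d

variable {G : Type} [Group G] [Finite G] {d : G}

theorem size_cases : ((List.range 32).all fun S =>
    !(Nat.beq ((List.range 2048).filter fun z => Nat.testBit (2 * S + 1) (code z)).length 23) ||
      Nat.beq S 1 || Nat.beq S 2) = true := by decide +kernel

/-- The labels. -/
theorem exists_marked (σ : ↥(cz(d)) →* G₀) (hs : Function.Surjective σ) (hd : d * d = 1) (hd1 : d ≠ 1)
    (hσd : σ ⟨d, mem_cz.2 rfl⟩ = 1) (hker : ∀ x, σ x = 1 → (x : G) = 1 ∨ (x : G) = d)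
    (hperf : commutator ↥(cz(d)) = ⊤) (hnwc : ∃ g : G, g * d * g⁻¹ ∈ cz(d) ∧ g * d * g⁻¹ ≠ d) :
    ∃ L : ℕ → G, Marked d L := by
  classical
  obtain ⟨h1, ⟨-, -⟩, h3⟩ := Fi22Cover.main σ hs hd hd1 hσd hker hperf hnwc
  obtain ⟨K, -, hKd⟩ := exists_cov σ ⟨d, mem_cz.2 rfl⟩ hs (Subtype.ext hd)
    (fun h => hd1 (congrArg Subtype.val h)) hσd (fun x => Subtype.ext (mem_cz.1 x.2).symm)
    (fun x hx => (hker x hx).imp (fun h => Subtype.ext h) (fun h => Subtype.ext h)) hperf
  have hK : (K.d : G) = d := congrArg Subtype.val hKd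
  let P : ℕ → Prop := fun c => ∃ a < 2048, a ≠ 0 ∧ code a = c ∧ IsConj d (vg K a)
  obtain ⟨S, hS, hbit⟩ := exists_bits P 6
  have hmem : ∀ a < 2048, (IsConj d (vg K a) ↔ Nat.testBit S (code a) = true) := by
    intro a ha
    by_cases h0 : a = 0
    · subst h0
      rw [vg_zero, show code 0 = 7 by decide +kernel,
        Nat.testBit_lt_two_pow (hS.trans (by norm_num : (2 : ℕ) ^ 6 < 2 ^ 7))]
      simp [isConj_one_left, hd1]
    obtain ⟨hc, -, h5⟩ := code_spec K ha
    have h5' := h5.resolve_right h0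
    rw [hbit _ (by omega)]
    refine ⟨fun h => ⟨a, ha, h0, rfl, h⟩, ?_⟩
    rintro ⟨b, hb, -, e, h⟩
    exact h.trans (isConj_of_cls K (e ▸ (code_spec K hb).1) hc)
  have hS0 : Nat.testBit S 0 = true := (show code 1024 = 0 by decide +kernel) ▸
    (hmem 1024 (by norm_num)).1 (by rw [vg_top K hK])
  have hel : Cfsg.IsElementaryAbelian 2 (AG K) := by
    refine ⟨⟨⟨fun x y => ?_⟩⟩, ?_⟩
    · obtain ⟨a, -, ea⟩ := (mem_AG K).1 x.2
      obtain ⟨b, -, eb⟩ := (mem_AG K).1 y.2
      exact Subtype.ext (by rw [Subgroup.coe_mul, Subgroup.coe_mul, ea, eb, vg_comm])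
    · intro x hx
      obtain ⟨a, -, rfl⟩ := (mem_AG K).1 hx
      rw [sq, vg_sq]
  obtain ⟨h23, -⟩ := h3 (AG K) (Subgroup.map_subtype_le _) hel
    ((Subgroup.card_map_of_injective (Subgroup.subtype_injective _)).trans (card_A K))
  have hcount : ((List.range 2048).filter fun z => Nat.testBit S (code z)).length = 23 := by
    rw [count_filter, ← h23]
    have himg : {x : G | x ∈ AG K ∧ IsConj d x} =
        (fun a => vg K a) '' {z : ℕ | z < 2048 ∧ Nat.testBit S (code z) = true} := by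
      ext x
      constructor
      · rintro ⟨hx, hx'⟩
        obtain ⟨a, ha, rfl⟩ := (mem_AG K).1 hx
        exact ⟨a, ⟨ha, (hmem a ha).1 hx'⟩, rfl⟩
      · rintro ⟨a, ⟨ha, h⟩, rfl⟩
        exact ⟨(mem_AG K).2 ⟨a, ha, rfl⟩, (hmem a ha).2 h⟩
    rw [himg]
    exact (Set.ncard_image_of_injOn fun a ha b hb h => vg_inj K ha.1 hb.1 h).symm
  have h35 : S = 3 ∨ S = 5 := by
    have h := List.all_eq_true.1 size_cases (S / 2) (List.mem_range.2 (by omega))
    have e : 2 * (S / 2) + 1 = S := by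
      have : S % 2 = 1 := by simpa [Nat.testBit_zero] using hS0
      omega
    rw [e] at h
    simp only [hcount, show Nat.beq 23 23 = true from rfl, Bool.not_true, Bool.false_or, Bool.or_eq_true,
      Nat.beq_eq] at h
    omega
  -- the lifts that are conjugates
  obtain ⟨ε, c₀, hε, hc₀, hcls⟩ : ∃ (ε : ↥(cz(d))) (c₀ : ℕ), (ε = 1 ∨ ε = K.d) ∧
      (∀ c, 1 ≤ c → c ≤ 5 → (Nat.testBit S c = true ↔ c = c₀)) ∧
      (1 ≤ c₀ ∧ c₀ ≤ 5 ∧ ∀ x, Cls K c₀ x ↔ ∃ p, x = K.T p * ε) := by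
    rcases h35 with rfl | rfl
    · refine ⟨1, 1, Or.inl rfl, fun c h h' => by interval_cases c <;> decide, le_rfl, by norm_num, fun x => ?_⟩
      exact exists_congr fun p => by rw [mul_one]
    · refine ⟨K.d, 2, Or.inr rfl, fun c h h' => by interval_cases c <;> decide, by norm_num, by norm_num,
        fun x => ?_⟩
      refine exists_congr fun p => ⟨fun h => ?_, fun h => ?_⟩
      · rw [← h, mul_d_cancel]
      · rw [h, mul_d_cancel]
  have hεc : ∀ x : ↥(cz(d)), Commute ε x := fun x => by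
    rcases hε with rfl | rfl
    · exact Commute.one_left x
    · exact K.central x
  have hεσ : K.σ ε = 1 := by
    rcases hε with rfl | rfl
    · exact map_one _
    · exact K.map_d
  let M : Fin 3510 → ↥(cz(d)) := fun p => K.T p * ε
  have hMσ : ∀ p, K.σ (M p) = tr p := fun p => by
    show K.σ (K.T p * ε) = _
    rw [map_mul, K.mapT, hεσ, mul_one]
  have hMconj : ∀ (e : ↥(cz(d))) p, M (hm (K.σ e) p) = e * M p * e⁻¹ := fun e p => by
    show K.T (hm (K.σ e) p) * ε = e * (K.T p * ε) * e⁻¹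
    rw [K.conj]
    calc e * K.T p * e⁻¹ * ε = e * K.T p * (e⁻¹ * ε) := by group
      _ = e * K.T p * (ε * e⁻¹) := by rw [(hεc e⁻¹).eq]
      _ = _ := by group
  have hfus : ∀ x : ↥(cz(d)), IsConj d (x : G) ↔ x = K.d ∨ ∃ p, x = M p := by
    have hrep : ∀ c ≤ 5, ∃ a, a < 2048 ∧ code a = c := exists_code
    intro x
    constructor
    · intro h
      by_cases hxd : x = K.d
      · exact Or.inl hxd
      refine Or.inr ?_
      have hsq : x * x = 1 := Subtype.ext (by
        obtain ⟨g, hg⟩ := isConj_iff.1 h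
        rw [Subgroup.coe_mul, ← hg, show g * d * g⁻¹ * (g * d * g⁻¹) = g * (d * d) * g⁻¹ by group, hd]
        simp)
      obtain ⟨c, h1c, h5c, hc⟩ := exists_cls K hsq (fun e => hd1 (isConj_one_left.1 (by
        rw [e] at h; exact h))) hxd
      obtain ⟨a, ha, hca⟩ := hrep c h5c
      have : c = c₀ := (hc₀ c h1c h5c).1 (hca ▸ (hmem a ha).1
        (h.trans (isConj_of_cls K hc (hca ▸ (code_spec K ha).1))))
      exact (hcls.2.2 x).1 (this ▸ hc)
    · rintro (rfl | ⟨p, rfl⟩)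
      · rw [hK]
      · obtain ⟨a, ha, hca⟩ := hrep c₀ hcls.2.1
        exact ((hmem a ha).2 (hca.symm ▸ (hc₀ c₀ hcls.1 hcls.2.1).2 rfl)).trans
          (isConj_of_cls K (hca ▸ (code_spec K ha).1) ((hcls.2.2 (M p)).2 ⟨p, rfl⟩))
  have hMne : ∀ p, M p ≠ K.d := fun p e => by
    have h2 := congrArg K.σ e
    rw [hMσ, K.map_d] at h2
    exact Fischer.TSet.ne_one Fi22Class.isClass.1 (Out22.tr_mem p) h2
  let L : ℕ → G := fun p => ((M ⟨p % 3510, Nat.mod_lt _ (by norm_num)⟩ : ↥(cz(d))) : G)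
  have hL : ∀ p (hp : p < 3510), L p = ((M ⟨p, hp⟩ : ↥(cz(d))) : G) := fun p hp => by
    show ((M ⟨p % 3510, _⟩ : ↥(cz(d))) : G) = _
    simp only [Nat.mod_eq_of_lt hp]
  have hMinj : Function.Injective M := fun p q e => Out22.tr_injective (by rw [← hMσ, ← hMσ, e])
  have hapt : ∀ {p q : ℕ} (hp : p < 3510) (hq : q < 3510),
      hm (tr ⟨p, hp⟩) ⟨q, hq⟩ = ⟨Fi22Local.tapp p q, Fi22Local.tapp_lt hp hq⟩ := fun {p q} hp hq => by
    refine hm_of_apt hq ?_
    rw [← Fi22Local.trN_eq hp, Fi22Local.apt_trN hp hq]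
  refine ⟨L, ⟨fun p hp => ?_, fun y hy => ?_, fun p hp q hq e => ?_, fun p hp q hq => ?_, fun p hp q hq => ?_⟩,
    ?_, ?_⟩
  · rw [hL p hp]
    exact ⟨(hfus _).2 (Or.inr ⟨_, rfl⟩), fun e => hMne _ (Subtype.ext (e.trans hK.symm)),
      (mem_cz.1 (M ⟨p, hp⟩).2).symm⟩
  · have hyC : y ∈ cz(d) := mem_cz.2 hy.2.2.symm
    rcases (hfus ⟨y, hyC⟩).1 hy.1 with e | ⟨p, e⟩
    · exact absurd ((congrArg Subtype.val e).trans hK) hy.2.1
    · exact ⟨p, p.2, by rw [hL p p.2]; exact (congrArg Subtype.val e).symm⟩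
  · rw [hL p hp, hL q hq] at e
    exact congrArg Fin.val (hMinj (Subtype.ext e))
  · rw [hL p hp, hL q hq, FischerUnique23.tapp_self_iff hp hq, Fi22Local.trN_eq hp, Fi22Local.trN_eq hq]
    constructor
    · intro h
      rw [← hMσ, ← hMσ]
      exact (show Commute (M ⟨p, hp⟩) (M ⟨q, hq⟩) from Subtype.ext h.eq).map K.σ
    · intro h
      have h1 := hMconj (M ⟨p, hp⟩) ⟨q, hq⟩
      rw [hMσ, (Out22.fix_iff (tr ⟨p, hp⟩) ⟨q, hq⟩).2 h] at h1
      exact congrArg Subtype.val (mul_inv_eq_iff_eq_mul.1 h1.symm)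
  · rw [hL p hp, hL q hq, hL _ (Fi22Local.tapp_lt hp hq), ← hapt hp hq, ← hMσ ⟨p, hp⟩, hMconj]
    rfl
  · have htop : Subgroup.closure (Set.range M) = ⊤ := by
      set R := Subgroup.closure (Set.range M)
      have himg : Subgroup.map K.σ R = ⊤ := by
        rw [MonoidHom.map_closure, eq_top_iff, ← Fi22Class.isClass.2.2]
        refine Subgroup.closure_mono fun a ha => ?_
        obtain ⟨p, rfl⟩ := Out22.exists_tr ha
        exact ⟨M p, ⟨p, rfl⟩, hMσ p⟩
      have hall : ∀ x, ∃ y ∈ R, x = y ∨ x = y * K.d := fun x => by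
        obtain ⟨y, hy, e⟩ : K.σ x ∈ Subgroup.map K.σ R := himg ▸ Subgroup.mem_top _
        exact ⟨y, hy, K.eq_or e.symm⟩
      rw [eq_top_iff, ← hperf, commutator_def, Subgroup.commutator_le]
      intro a _ b _
      obtain ⟨x, hx, ea⟩ := hall a
      obtain ⟨y, hy, eb⟩ := hall b
      have hxy : ⁅a, b⁆ = ⁅x, y⁆ := by
        have hc := K.central
        have key : ∀ u v : ↥(cz(d)), ⁅u * K.d, v⁆ = ⁅u, v⁆ ∧ ⁅u, v * K.d⁆ = ⁅u, v⁆ := fun u v => by
          simp only [commutatorElement_def, mul_inv_rev]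
          constructor
          · calc u * K.d * v * (K.d⁻¹ * u⁻¹) * v⁻¹ = u * (K.d * v) * K.d⁻¹ * u⁻¹ * v⁻¹ := by group
              _ = _ := by rw [(hc v).eq]; group
          · calc u * (v * K.d) * u⁻¹ * (K.d⁻¹ * v⁻¹) = u * v * (K.d * u⁻¹) * K.d⁻¹ * v⁻¹ := by group
              _ = _ := by rw [(hc u⁻¹).eq]; group
        rcases ea with rfl | rfl <;> rcases eb with rfl | rfl <;> simp [(key _ _).1, (key _ _).2]
      rw [hxy, commutatorElement_def]
      exact mul_mem (mul_mem (mul_mem hx hy) (inv_mem hx)) (inv_mem hy)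
    intro x hx
    have hm' : (⟨x, hx⟩ : ↥(cz(d))) ∈ Subgroup.closure (Set.range M) := htop ▸ Subgroup.mem_top _
    have := Subgroup.mem_map_of_mem (cz(d)).subtype hm'
    rw [MonoidHom.map_closure] at this
    refine Subgroup.closure_mono ?_ this
    rintro _ ⟨_, ⟨p, rfl⟩, rfl⟩
    exact ⟨p, p.2, hL p p.2⟩
  · intro k hkd hk
    have hkC : k ∈ cz(d) := mem_cz.2 hkd
    have hcen : K.σ ⟨k, hkC⟩ ∈ Subgroup.center G₀ := Fischer.mem_center_of_commute_gen Fi22Class.isClass.2.2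
      fun a ha => by
        obtain ⟨p, rfl⟩ := Out22.exists_tr ha
        rw [← hMσ]
        exact (show Commute (⟨k, hkC⟩ : ↥(cz(d))) (M p) from Subtype.ext (hL p p.2 ▸ hk p p.2).eq).map K.σ
    rw [show Subgroup.center G₀ = ⊥ from Fi22Type.center_GG, Subgroup.mem_bot] at hcen
    exact (K.ker_cases _ hcen).imp (fun e => congrArg Subtype.val e) fun e => (congrArg Subtype.val e).trans hK

end Cfsg.Agent.FischerM23Recog
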