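import Cfsg.Agent.Lib.FischerM23Recog.Embed
import Cfsg.Agent.Lib.FischerUnique23.Involutions
import Cfsg.Agent.Lib.Components.Basic
import Cfsg.Agent.Lib.FischerPresented.Fi22TwoTwoCard

/-!
The presented Fi23: factorisations of involutions, a set of seven commuting transpositions with trivial product,
and the numbers of commuting pairs.
-/

set_option autoImplicit false
set_option maxRecDepth 100000

namespace Cfsg.Agent.FischerM23Recog

open Cfsg.Agent.CosetCert
open Cfsg.Agent.FischerPresented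
open Cfsg.Agent.Fischer.Factor (Nb)
open Cfsg.Agent.FischerUnique23
open Cfsg.Agent.FischerUnique23.Inv (Fac)

local notation "G₀" => FischerUnique23.GT
local notation "D₀" => FischerPresented.Fi23.D
local notation "z₀" => FischerPresented.Fi23.z

theorem hprim23 : Cfsg.IsPrimitiveUnderConj D₀ := by
  have := Fi23.order_facts.1
  haveI hs := Fi23.isSimpleGroup
  have hsimp : IsSimpleGroup ↥(commutator G₀) := by
    rcases (inferInstance : (commutator G₀).Normal).eq_bot_or_eq_top with h | h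
    · exfalso
      refine nine_not_commute (commutatorElement_eq_one_iff_commute.1 ?_)
      rw [← Subgroup.mem_bot, ← h]
      exact Subgroup.commutator_mem_commutator (Subgroup.mem_top _) (Subgroup.mem_top _)
    · rw [h]
      exact (MulEquiv.isSimpleGroup_congr Subgroup.topEquiv).2 hs
  exact (S5361.result Fi23.isClass Fi23Type.center_GT
    ⟨z₀, z23_mem, gT 0, (gen_nb 0 (by norm_num)).1, (gen_nb 0 (by norm_num)).2.1.symm,
      (gen_nb 0 (by norm_num)).2.2⟩).1.1 hsimp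

theorem ht23 : Cfsg.IsOfTypeM23 G₀ D₀ := Fi23Type.type_m23 (MulEquiv.refl G₀) (by simp)

theorem loc23 : ∃ d ∈ D₀, Nonempty (Inv.Loc D₀ d) := by
  have := Fi23.order_facts.1
  exact (Inv.exists_loc D23_group hprim23 ht23).2

theorem ncard_D : (D₀ : Set G₀).ncard = 31671 := by
  rw [← Nat.card_coe_set_eq, Fi23.card_D]

theorem sq_D {a : G₀} (ha : a ∈ D₀) : a * a = 1 := Fischer.TSet.sq Fi23.isClass.1 ha

theorem ne_one_D {a : G₀} (ha : a ∈ D₀) : a ≠ 1 := Fischer.TSet.ne_one Fi23.isClass.1 ha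

/-- A product of the given number of distinct commuting members. -/
theorem fac_one {a : G₀} (ha : a ∈ D₀) : Fac D₀ 1 a :=
  ⟨[a], List.nodup_singleton a, rfl, by simp [ha], by simp, by simp⟩

theorem fac_two {a b : G₀} (ha : a ∈ D₀) (hb : b ∈ D₀) (hne : a ≠ b) (hc : Commute a b) : Fac D₀ 2 (a * b) :=
  ⟨[a, b], by simp [hne], rfl, by simp [ha, hb], by simp [hc, hc.symm], by simp⟩

theorem fac_three {a b c : G₀} (ha : a ∈ D₀) (hb : b ∈ D₀) (hc : c ∈ D₀) (hab : a ≠ b) (hac : a ≠ c) (hbc : b ≠ c)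
    (cab : Commute a b) (cac : Commute a c) (cbc : Commute b c) : Fac D₀ 3 (a * b * c) :=
  ⟨[a, b, c], by simp [hab, hac, hbc], rfl, by simp [ha, hb, hc],
    by simp [cab, cab.symm, cac, cac.symm, cbc, cbc.symm], by simp [mul_assoc]⟩

theorem fac_unique {m m' : ℕ} {x : G₀} (h1 : 1 ≤ m) (h3 : m ≤ 3) (h1' : 1 ≤ m') (h3' : m' ≤ 3)
    (hx : Fac D₀ m x) (hx' : Fac D₀ m' x) : m = m' := by
  obtain ⟨d, hd, ⟨L⟩⟩ := loc23
  exact L.unique_length D23_group hprim23 hd h1 h3 h1' h3' hx hx'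

theorem fac_conj {m : ℕ} {x y : G₀} (h1 : 1 ≤ m) (h3 : m ≤ 3) (hx : Fac D₀ m x) (hy : Fac D₀ m y) :
    IsConj x y := by
  obtain ⟨d, hd, ⟨L⟩⟩ := loc23
  exact L.classes_conj D23_group hprim23 hd h1 h3 hx hy

/-- The shapes of an involution. -/
theorem invol_cases {x : G₀} (hx : x * x = 1) (h1 : x ≠ 1) :
    x ∈ D₀ ∨ (∃ a b, a ∈ D₀ ∧ b ∈ D₀ ∧ a ≠ b ∧ Commute a b ∧ x = a * b) ∨ Fac D₀ 3 x := by
  have := Fi23.order_facts.1
  obtain ⟨d, hd, ⟨L⟩⟩ := loc23
  obtain ⟨m, h1m, h3m, h⟩ := L.exists_fac D23_group hprim23 hd (by rw [ncard_D]; norm_num) x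
    (orderOf_eq_prime (by rw [sq, hx]) h1)
  rcases (by omega : m = 1 ∨ m = 2 ∨ m = 3) with rfl | rfl | rfl
  · obtain ⟨l, -, hl, hD, -, hp⟩ := h
    obtain ⟨a, rfl⟩ := List.length_eq_one_iff.1 hl
    exact Or.inl (by rw [← hp, List.prod_singleton]; exact hD a (by simp))
  · obtain ⟨l, hn, hl, hD, hc, hp⟩ := h
    obtain ⟨a, b, rfl⟩ := List.length_eq_two.1 hl
    refine Or.inr (Or.inl ⟨a, b, hD a (by simp), hD b (by simp), ?_, hc a (by simp) b (by simp), ?_⟩)
    · simpa using hn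
    · simpa using hp.symm
  · exact Or.inr (Or.inr h)

theorem exists_conj_z {x : G₀} (hx : x * x = 1) (h1 : x ≠ 1) : ∃ c : G₀, Commute (c * x * c⁻¹) z₀ := by
  have key : ∀ (a y : G₀), a ∈ D₀ → Commute y a → x = y → ∃ c : G₀, Commute (c * x * c⁻¹) z₀ := by
    intro a y ha hc e
    subst e
    obtain ⟨g, rfl⟩ := Fi23.mem_D.1 ha
    refine ⟨g⁻¹, ?_⟩
    rw [inv_inv]
    have := (Fischer.commute_conj_iff g (g⁻¹ * x * g) z₀).1
    refine this ?_
    rwa [show g * (g⁻¹ * x * g) * g⁻¹ = x by group]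
  rcases invol_cases hx h1 with h | ⟨a, b, ha, -, -, hc, rfl⟩ | ⟨l, -, hl, hD, hc, hp⟩
  · exact key x x h (Commute.refl x) rfl
  · exact key a _ ha ((Commute.refl a).mul_left hc.symm) rfl
  · obtain ⟨a, b, c, rfl⟩ := List.length_eq_three.1 hl
    exact key a _ (hD a (by simp)) (Commute.list_prod_left _ _ fun y hy => hc y hy a (by simp)) hp.symm

/-- Products of at most three commuting members determine them. -/
theorem factors_unique (m : ℕ) (hm : m ≤ 3) (l l' : List G₀) (hn : l.Nodup) (hn' : l'.Nodup) (hl : l.length = m)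
    (hl' : l'.length = m) (hD : ∀ a ∈ l, a ∈ D₀) (hD' : ∀ a ∈ l', a ∈ D₀) (hc : ∀ a ∈ l, ∀ b ∈ l, Commute a b)
    (hc' : ∀ a ∈ l', ∀ b ∈ l', Commute a b) (hp : l.prod = l'.prod) : ∀ x : G₀, x ∈ l ↔ x ∈ l' := by
  have := Fi23.order_facts.1
  have hcore : ∀ p : ℕ, p.Prime → Cfsg.pCore p ↥(Subgroup.closure (Nb D₀ z₀)) ≤
      Subgroup.center ↥(Subgroup.closure (Nb D₀ z₀)) := by
    intro p hp
    have hq : Cfsg.IsQuasisimple ↥(Subgroup.closure (Nb D₀ z₀)) := by
      rw [closure_nb_z23]; exact quasisimple_K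
    haveI : (Cfsg.pCore p ↥(Subgroup.closure (Nb D₀ z₀))).Normal := Cfsg.pCore_normal p _
    refine (Components.quasisimple_normal hq _).resolve_left fun htop => ?_
    haveI := Fact.mk hp
    have hpg := PBasic.pCore_isPGroup p ↥(Subgroup.closure (Nb D₀ z₀))
    rw [htop] at hpg
    have hpg' : IsPGroup p ↥(Subgroup.closure (Nb D₀ z₀)) := hpg.of_equiv Subgroup.topEquiv
    haveI := hpg'.isNilpotent
    exact Components.quasisimple_not_solvable hq inferInstance
  obtain ⟨h4, h6⟩ := Fischer.Factor.noRel_four_six D23_group hprim23 z23_mem (hcore 3 Nat.prime_three)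
    (hcore 2 Nat.prime_two) (Or.inl ht23)
  exact Fischer.Factor.unique_factor D23_group.1 h4 h6 m hm l l' hn hn' hl hl' hD hD' hc hc' hp

/-- A product of two distinct commuting members determines them. -/
theorem pair_unique {a b p q : G₀} (ha : a ∈ D₀) (hb : b ∈ D₀) (hne : a ≠ b) (hc : Commute a b) (hp : p ∈ D₀)
    (hq : q ∈ D₀) (hne' : p ≠ q) (hc' : Commute p q) (h : p * q = a * b) : p = a ∨ p = b := by
  have := (factors_unique 2 (by norm_num) [p, q] [a, b] (by simp [hne']) (by simp [hne]) rfl rfl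
    (by simp [hp, hq]) (by simp [ha, hb]) (by simp [hc', hc'.symm]) (by simp [hc, hc.symm]) (by simpa using h) p).1
    (by simp)
  simpa using this

/-- A member commuting with a product of two commuting members commutes with both. -/
theorem commute_pair {a b e : G₀} (ha : a ∈ D₀) (hb : b ∈ D₀) (he : e ∈ D₀) (hne : a ≠ b) (hc : Commute a b)
    (h : Commute e (a * b)) : Commute e a ∧ Commute e b :=
  (Fischer.TSet.commute_mul_iff Fi23.isClass.1 ha hb he hne hc).1 h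

/-- Six neighbours of the base with product the base. -/
theorem exists_six : ∃ l : List G₀, l.length = 6 ∧ (∀ x ∈ l, x ∈ Nb D₀ z₀) ∧
    (∀ x ∈ l, ∀ y ∈ l, Commute x y) ∧ l.prod = z₀ := by
  obtain ⟨d, hd, ⟨L⟩⟩ := loc23
  obtain ⟨b₁, b₂, b₃, b₄, b₅, b₆, -, hmem, hcm, hprod⟩ := L.six
  obtain ⟨c, rfl⟩ := Fi23.mem_D.1 hd
  refine ⟨[b₁, b₂, b₃, b₄, b₅, b₆].map (MulAut.conj c⁻¹), rfl, fun x hx => ?_, fun x hx y hy => ?_, ?_⟩
  · obtain ⟨b, hb, rfl⟩ := List.mem_map.1 hx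
    have := Fischer.Factor.nb_conj D23_group c⁻¹ (hmem b hb)
    rw [inv_inv, show c⁻¹ * (c * z₀ * c⁻¹) * c = z₀ by group] at this
    simpa using this
  · obtain ⟨a, ha, rfl⟩ := List.mem_map.1 hx
    obtain ⟨b, hb, rfl⟩ := List.mem_map.1 hy
    exact (hcm a ha b hb).map (MulAut.conj c⁻¹).toMonoidHom
  · rw [← map_list_prod, MulAut.conj_apply, show [b₁, b₂, b₃, b₄, b₅, b₆].prod = c * z₀ * c⁻¹ by
      rw [hprod]; simp [mul_assoc]]
    group

/-- The six neighbours. -/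
noncomputable def six : List G₀ := exists_six.choose

theorem six_spec : six.length = 6 ∧ (∀ x ∈ six, x ∈ Nb D₀ z₀) ∧ (∀ x ∈ six, ∀ y ∈ six, Commute x y) ∧
    six.prod = z₀ := exists_six.choose_spec

/-- The standard second member. -/
noncomputable def bz : G₀ := six.getD 0 1

theorem bz_six : bz ∈ six := by
  have h := six_spec.1
  rw [bz, List.getD_eq_getElem _ _ (show 0 < six.length by omega)]
  exact List.getElem_mem _

theorem bz_nb : bz ∈ Nb D₀ z₀ := six_spec.2.1 _ bz_six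

attribute [irreducible] six bz

/-- All pairs are conjugate to the standard one. -/
theorem pair_conj {a b : G₀} (ha : a ∈ D₀) (hb : b ∈ D₀) (hne : a ≠ b) (hc : Commute a b) :
    IsConj (z₀ * bz) (a * b) :=
  fac_conj (by norm_num) (by norm_num) (fac_two z23_mem bz_nb.1 bz_nb.2.1.symm bz_nb.2.2) (fac_two ha hb hne hc)

/-- An element exchanging the standard pair. -/
theorem exists_swap : ∃ s : G₀, s * z₀ * s⁻¹ = bz ∧ s * bz * s⁻¹ = z₀ := by
  have := Fi23.order_facts.1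
  obtain ⟨c, hc⟩ := hprim23.1 z₀ z23_mem bz bz_nb.1
  have hu : c⁻¹ * z₀ * c ∈ Nb D₀ z₀ := by
    have h := Fischer.Factor.nb_conj D23_group c⁻¹
      (show z₀ ∈ Nb D₀ bz from ⟨z23_mem, bz_nb.2.1.symm, bz_nb.2.2.symm⟩)
    have e : c⁻¹ * bz * c = z₀ := calc
      c⁻¹ * bz * c = c⁻¹ * (c * z₀ * c⁻¹) * c := congrArg (fun t => c⁻¹ * t * c) hc.symm
      _ = z₀ := by group
    rw [inv_inv] at h
    exact e ▸ h
  have hw : ∃ a ∈ D₀, ∃ b ∈ D₀, a ≠ b ∧ Commute a b := ⟨z₀, z23_mem, bz, bz_nb.1, bz_nb.2.1.symm, bz_nb.2.2⟩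
  obtain ⟨m, hm, em⟩ := Fischer.prim_trans_commuting D23_group hprim23 hw z23_mem _ bz_nb _ hu
  have hmK : m ∈ Fi23.K := closure_nb_z23 ▸ hm
  have hmz : m * z₀ * m⁻¹ = z₀ := Fischer.conj_eq_self_of_commute (Fi23.z_comm_K m hmK).symm
  refine ⟨c * m, ?_, ?_⟩
  · rw [show c * m * z₀ * (c * m)⁻¹ = c * (m * z₀ * m⁻¹) * c⁻¹ by group, hmz, hc]
  · rw [show c * m * bz * (c * m)⁻¹ = c * (m * bz * m⁻¹) * c⁻¹ by group, em]
    group

/-- The number of neighbours. -/
theorem card_Nb : (Nb D₀ z₀).ncard = 3510 := by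
  have := Fi23.order_facts.1
  obtain ⟨L, hL⟩ := (exists_lab D23_group hprim23 ht23).1 z₀ z23_mem
  have himg : Nb D₀ z₀ = (fun p : Fin 3510 => L p) '' Set.univ := by
    ext y
    constructor
    · intro hy
      obtain ⟨p, hp, rfl⟩ := hL.surj y hy
      exact ⟨⟨p, hp⟩, trivial, rfl⟩
    · rintro ⟨p, -, rfl⟩
      exact hL.mem p p.2
  rw [himg, Set.ncard_image_of_injective _ fun p q e => Fin.ext (hL.inj p p.2 q q.2 e), Set.ncard_univ,
    Nat.card_fin]

/-- The common neighbours of the base and one of its neighbours. -/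
theorem card_common {a : G₀} (ha : a ∈ Nb D₀ z₀) :
    {b : G₀ | b ∈ Nb D₀ z₀ ∧ a ≠ b ∧ Commute a b}.ncard ≤ 693 := by
  have := Fi23.order_facts.1
  have := Fi22.order_facts.1
  obtain ⟨L, hL⟩ := (exists_lab D23_group hprim23 ht23).1 z₀ z23_mem
  obtain ⟨p, hp, rfl⟩ := hL.surj a ha
  obtain ⟨c, hc⟩ := Fi22Class.mem_D.1 (Fi22Local.trN_mem hp)
  have h693 : (Nb Fi22Class.D (Fi22Local.trN p)).ncard = 693 := by
    have e : Nb Fi22Class.D (Fi22Local.trN p) = (fun y => c * y * c⁻¹) '' Nb Fi22Class.D Fi22Class.z := by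
      ext y
      constructor
      · intro hy
        have h := Fischer.Factor.nb_conj FischerUnique.D_group c⁻¹ hy
        rw [inv_inv, show c⁻¹ * Fi22Local.trN p * c = Fi22Class.z by rw [← hc]; group] at h
        exact ⟨_, h, by group⟩
      · rintro ⟨w, hw, rfl⟩
        exact hc ▸ Fischer.Factor.nb_conj FischerUnique.D_group c hw
    rw [e, Set.ncard_image_of_injective _ fun u v h => mul_left_cancel (mul_right_cancel h)]
    exact FischerPresented.Fi22TwoTwo.card_Nb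
  have hsub : {b : G₀ | b ∈ Nb D₀ z₀ ∧ L p ≠ b ∧ Commute (L p) b} ⊆
      L '' {q : ℕ | q < 3510 ∧ Fi22Local.trN q ∈ Nb Fi22Class.D (Fi22Local.trN p)} := by
    rintro b ⟨hb, hne, hcb⟩
    obtain ⟨q, hq, rfl⟩ := hL.surj b hb
    refine ⟨q, ⟨hq, Fi22Local.trN_mem hq, fun e => hne (by rw [Fi22Local.trN_inj hq hp e]), ?_⟩, rfl⟩
    exact (FischerUnique23.tapp_self_iff hp hq).1 ((hL.comm p hp q hq).1 hcb)
  have hfin : {q : ℕ | q < 3510 ∧ Fi22Local.trN q ∈ Nb Fi22Class.D (Fi22Local.trN p)}.Finite :=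
    (Set.finite_lt_nat 3510).subset fun q hq => hq.1
  refine (Set.ncard_le_ncard hsub (hfin.image L)).trans ((Set.ncard_image_le hfin).trans ?_)
  rw [← h693]
  exact Set.ncard_le_ncard_of_injOn Fi22Local.trN (fun q hq => hq.2)
    (fun q hq q' hq' e => Fi22Local.trN_inj hq.1 hq'.1 e) (Set.toFinite _)

end Cfsg.Agent.FischerM23Recog
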